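import Groth.Agent.Fano.K745.HDef
import Groth.Agent.Dix.GenGeomIrr
import Groth.Agent.FlatB.GenFibIrrSch
import Groth.Agent.Lefpen.H702.PolyFun
import Mathlib.RingTheory.Localization.Integral
import Mathlib.RingTheory.Ideal.GoingUp

/-!
# The general fibre of the total space of conics is irreducible
-/

set_option autoImplicit false

universe u

open CategoryTheory CategoryTheory.Limits AlgebraicGeometry TensorProduct

namespace K34.HIrr

section Alg

/-- If `R ⊆ S`, `S` is a normal domain with a homomorphism to a field `Y` in which the fraction field of `R` is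
algebraically closed, then the fraction field of `R` is algebraically closed in the one of `S`. -/
theorem mem_range_of_isAlgebraic {R S K L Y : Type*} [CommRing R] [IsDomain R] [CommRing S] [IsDomain S]
    [IsIntegrallyClosed S] [Field K] [Field L] [Field Y] [Algebra R S] [Algebra R K] [IsFractionRing R K]
    [Algebra S L] [IsFractionRing S L] [Algebra K L] [Algebra R L] [IsScalarTower R K L] [IsScalarTower R S L]
    (σ : S →+* Y) (hinj : Function.Injective (σ.comp (algebraMap R S)))
    (hY : ∀ z : Y, (∃ P : Polynomial R, P ≠ 0 ∧ P.eval₂ (σ.comp (algebraMap R S)) z = 0) →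
      ∃ a b : R, b ≠ 0 ∧ z * σ (algebraMap R S b) = σ (algebraMap R S a))
    (z : L) (hz : IsAlgebraic K z) : z ∈ (algebraMap K L).range := by
  have hRS : Function.Injective (algebraMap R S) := Function.Injective.of_comp (f := σ) hinj
  have hSL : Function.Injective (algebraMap S L) := IsFractionRing.injective S L
  have hz' : IsAlgebraic R z := (IsFractionRing.isAlgebraic_iff R K L).2 hz
  obtain ⟨r, hr, hint⟩ := hz'.exists_integral_multiple
  obtain ⟨s, hs⟩ := IsIntegrallyClosed.isIntegral_iff.1 (hint.tower_top (A := S))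
  have hsint : IsIntegral R s := by
    rw [← hs] at hint
    exact (isIntegral_algebraMap_iff hSL).1 hint
  obtain ⟨P, hP, hP0⟩ := hsint
  obtain ⟨a, b, hb, hab⟩ := hY (σ s) ⟨P, hP.ne_zero, by
    rw [← Polynomial.hom_eval₂, hP0, map_zero]⟩
  have hw : s * algebraMap R S b = algebraMap R S a := by
    by_contra hne
    have h0 : s * algebraMap R S b - algebraMap R S a ≠ 0 := sub_ne_zero.2 hne
    have h1 : s * algebraMap R S b - algebraMap R S a ∈ RingHom.ker σ := by
      rw [RingHom.mem_ker, map_sub, map_mul, hab, sub_self]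
    have h2 : IsIntegral R (s * algebraMap R S b - algebraMap R S a) :=
      (IsIntegral.mul ⟨P, hP, hP0⟩ isIntegral_algebraMap).sub isIntegral_algebraMap
    apply Ideal.comap_ne_bot_of_integral_mem h0 h1 h2
    rw [eq_bot_iff]
    intro c hc
    have h3 : σ (algebraMap R S c) = 0 := hc
    have h4 : (σ.comp (algebraMap R S)) c = (σ.comp (algebraMap R S)) 0 := by
      rw [map_zero]; exact h3
    exact hinj h4
  have hb' : algebraMap R K b ≠ 0 := (map_ne_zero_iff _ (IsFractionRing.injective R K)).2 hb
  have hr' : algebraMap R K r ≠ 0 := (map_ne_zero_iff _ (IsFractionRing.injective R K)).2 hr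
  refine ⟨algebraMap R K a / (algebraMap R K b * algebraMap R K r), ?_⟩
  rw [map_div₀, map_mul, ← IsScalarTower.algebraMap_apply R K L, ← IsScalarTower.algebraMap_apply R K L,
    ← IsScalarTower.algebraMap_apply R K L]
  have hbL : algebraMap R L b ≠ 0 := by
    rw [IsScalarTower.algebraMap_apply R K L]; exact (map_ne_zero _).2 hb'
  have hrL : algebraMap R L r ≠ 0 := by
    rw [IsScalarTower.algebraMap_apply R K L]; exact (map_ne_zero _).2 hr'
  rw [div_eq_iff (mul_ne_zero hbL hrL)]
  have h5 : algebraMap S L s * algebraMap R L b = algebraMap R L a := by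
    rw [IsScalarTower.algebraMap_apply R S L, IsScalarTower.algebraMap_apply R S L, ← map_mul, hw]
  rw [← h5, hs, Algebra.smul_def]
  ring

end Alg

section Geo

/-- Evaluation at a point of the spectrum. -/
noncomputable def ev (A : Type u) [CommRing A] (y : Spec (CommRingCat.of A)) :
    A →+* (Spec (CommRingCat.of A)).residueField y :=
  ((Scheme.ΓSpecIso (CommRingCat.of A)).inv ≫ (Spec (CommRingCat.of A)).Γevaluation y).hom

theorem ev_eq (A : Type u) [CommRing A] (y : Spec (CommRingCat.of A)) (a : A) :
    ev A y a = (Scheme.Spec.residueFieldIso (CommRingCat.of A) y).inv.hom (algebraMap A y.asIdeal.ResidueField a) := by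
  have h := Scheme.Spec.algebraMap_residueFieldIso_inv (CommRingCat.of A) y
  exact congr($h a).symm

theorem isFractionRing_residueField (A : Type u) [CommRing A] [IsDomain A] (y : Spec (CommRingCat.of A))
    (hy : y.asIdeal = ⊥) :
    @IsFractionRing A _ ((Spec (CommRingCat.of A)).residueField y) _ (ev A y).toAlgebra := by
  obtain ⟨I, hI⟩ := y
  dsimp only at hy
  subst hy
  let _ : Algebra A ((Spec (CommRingCat.of A)).residueField ⟨⊥, hI⟩) := (ev A ⟨⊥, hI⟩).toAlgebra
  let e : (⊥ : Ideal A).ResidueField ≃ₐ[A] ((Spec (CommRingCat.of A)).residueField ⟨⊥, hI⟩) :=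
    { (Scheme.Spec.residueFieldIso (CommRingCat.of A) ⟨⊥, hI⟩).symm.commRingCatIsoToRingEquiv with
      commutes' := fun a => (ev_eq A ⟨⊥, hI⟩ a).symm }
  exact IsLocalization.isLocalization_of_algEquiv (nonZeroDivisors A) e

variable {R S : Type u} [CommRing R] [IsDomain R] [CommRing S] [IsDomain S] [Algebra R S]

theorem asIdeal_genericPoint (A : Type u) [CommRing A] [IsDomain A] :
    (genericPoint (Spec (CommRingCat.of A))).asIdeal = ⊥ := by
  have h1 : genericPoint (Spec (CommRingCat.of A)) ⤳ (⟨⊥, Ideal.isPrime_bot⟩ : PrimeSpectrum A) :=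
    (genericPoint_spec _).specializes trivial
  rw [eq_bot_iff]
  exact (PrimeSpectrum.le_iff_specializes _ _).2 h1

theorem map_genericPoint (hinj : Function.Injective (algebraMap R S)) :
    Spec.map (CommRingCat.ofHom (algebraMap R S)) (genericPoint (Spec (CommRingCat.of S))) =
      genericPoint (Spec (CommRingCat.of R)) := by
  apply PrimeSpectrum.ext
  rw [asIdeal_genericPoint]
  change Ideal.comap (algebraMap R S) (genericPoint (Spec (CommRingCat.of S))).asIdeal = ⊥
  rw [asIdeal_genericPoint]
  exact Ideal.comap_bot_of_injective _ hinj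

theorem geometricallyIrreducible_generic_of [IsIntegrallyClosed S] {Y : Type*} [Field Y] (σ : S →+* Y)
    (hinj : Function.Injective (σ.comp (algebraMap R S)))
    (hY : ∀ z : Y, (∃ P : Polynomial R, P ≠ 0 ∧ P.eval₂ (σ.comp (algebraMap R S)) z = 0) →
      ∃ a b : R, b ≠ 0 ∧ z * σ (algebraMap R S b) = σ (algebraMap R S a)) :
    GeometricallyIrreducible ((Spec.map (CommRingCat.ofHom (algebraMap R S))).fiberToSpecResidueField
      (genericPoint (Spec (CommRingCat.of R)))) := by
  have hRS : Function.Injective (algebraMap R S) := Function.Injective.of_comp (f := σ) hinj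
  rw [← map_genericPoint hRS]
  set f := Spec.map (CommRingCat.ofHom (algebraMap R S)) with hf
  set x := genericPoint (Spec (CommRingCat.of S)) with hx
  refine Groth.Agent.Dix.GenGeomIrr.geometricallyIrreducible_fiber f x
    (fun z => (genericPoint_spec _).specializes trivial) ?_
  intro a ha
  let _ : Algebra R ((Spec (CommRingCat.of R)).residueField (f x)) := (ev R (f x)).toAlgebra
  let _ : Algebra S ((Spec (CommRingCat.of S)).residueField x) := (ev S x).toAlgebra
  let _ : Algebra ((Spec (CommRingCat.of R)).residueField (f x)) ((Spec (CommRingCat.of S)).residueField x) :=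
    (f.residueFieldMap x).hom.toAlgebra
  let _ : Algebra R ((Spec (CommRingCat.of S)).residueField x) :=
    ((ev S x).comp (algebraMap R S)).toAlgebra
  have h1 : IsFractionRing R ((Spec (CommRingCat.of R)).residueField (f x)) :=
    isFractionRing_residueField R (f x) (by rw [map_genericPoint hRS, asIdeal_genericPoint])
  have h2 : IsFractionRing S ((Spec (CommRingCat.of S)).residueField x) :=
    isFractionRing_residueField S x (asIdeal_genericPoint S)
  have h3 : IsScalarTower R S ((Spec (CommRingCat.of S)).residueField x) := IsScalarTower.of_algebraMap_eq fun _ => rfl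
  have h4 : IsScalarTower R ((Spec (CommRingCat.of R)).residueField (f x))
      ((Spec (CommRingCat.of S)).residueField x) := IsScalarTower.of_algebraMap_eq fun r => by
    have e1 : (Scheme.ΓSpecIso (CommRingCat.of R)).inv ≫ f.appTop =
        CommRingCat.ofHom (algebraMap R S) ≫ (Scheme.ΓSpecIso (CommRingCat.of S)).inv :=
      (Scheme.ΓSpecIso_inv_naturality (CommRingCat.ofHom (algebraMap R S))).symm
    have e2 : ((Scheme.ΓSpecIso (CommRingCat.of R)).inv ≫ (Spec (CommRingCat.of R)).Γevaluation (f x)) ≫
        f.residueFieldMap x = CommRingCat.ofHom (algebraMap R S) ≫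
          ((Scheme.ΓSpecIso (CommRingCat.of S)).inv ≫ (Spec (CommRingCat.of S)).Γevaluation x) := by
      rw [Category.assoc, Scheme.Γevaluation_naturality, ← Category.assoc, e1, Category.assoc]
    exact congr($e2 r).symm
  exact mem_range_of_isAlgebraic (K := (Spec (CommRingCat.of R)).residueField (f x)) σ hinj hY a
    (IsSeparable.isIntegral ha).isAlgebraic

end Geo

section Con

open K745.ConDef K745.HDef W4swstmapratcurves Groth.Agent.Lefpen.H701

variable {n d : ℕ}

theorem subF_FU {k : Type u} [CommRing k] {A : Type u} [CommRing A] (ρ : MvPolynomial (FI n d) k →+* A)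
    (γ : FI n d → A) (hγ : ∀ α, ρ (MvPolynomial.X α) = γ α) (φ : Fin (n + 1) → Fin 3 → A) :
    subF ρ (FU n d k) φ = subF (RingHom.id A) (formOf γ) φ := by
  simp only [subF, FU, formOf, MvPolynomial.eval₂_sum, MvPolynomial.eval₂_monomial, RingHom.comp_apply, hγ,
    RingHom.id_apply]

theorem map_del {A B : Type u} [CommRing A] [CommRing B] (hn : 2 ≤ n) (β : A →+* B)
    (φ : Fin (n + 1) → Fin 3 → A) : β (del hn φ) = del hn (fun l i => β (φ l i)) := by
  rw [del, del, det3, det3, RingHom.map_det]
  rfl

/-- The statement of node H2. -/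
def H2Stmt (k : Type u) [Field k] (n d : ℕ) (hn : 2 ≤ n) : Prop :=
  ∃ (Y : Type u) (_ : Field Y) (_ : Algebra k Y) (γ : FI n d → Y) (c : Fin 5 → Y) (φ : Fin (n + 1) → Fin 3 → Y),
    AlgebraicIndependent k γ ∧
    (∀ z : Y, IsAlgebraic (IntermediateField.adjoin k (Set.range γ)) z →
      z ∈ IntermediateField.adjoin k (Set.range γ)) ∧
    del hn φ ≠ 0 ∧ qf c ∣ subF (RingHom.id Y) (formOf γ) φ

/-- The statement of the first part of node H16. -/
def H16Stmt : Prop :=
  ∀ {n : ℕ} {R B : Type u} [CommRing R] [CommRing B] (ρ : R →+* B) (G : MvPolynomial (Fin (n + 1)) R)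
    (c : Fin 5 → B) (φ : Fin (n + 1) → Fin 3 → B), qf c ∣ subF ρ G φ →
    ∃! α : RC G →+* B, α.comp (algebraMap R (RC G)) = ρ ∧ (∀ i, α (mkR G (cU n R i)) = c i) ∧
      ∀ l i, α (mkR G (φU n R l i)) = φ l i

/-- **Node H4a** (from H2, H3, H16): the generic fibre of the total space is geometrically irreducible. -/
theorem geometricallyIrreducible_generic (k : Type u) [Field k] (hn : 2 ≤ n)
    (H2 : H2Stmt k n d hn)
    (H3 : IsDomain (RD hn (FU n d k)) ∧ IsIntegrallyClosed (RD hn (FU n d k))) (H16 : H16Stmt.{u}) :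
    GeometricallyIrreducible ((Spec.map (CommRingCat.ofHom
      (algebraMap (MvPolynomial (FI n d) k) (RD hn (FU n d k))))).fiberToSpecResidueField
        (genericPoint (Spec (CommRingCat.of (MvPolynomial (FI n d) k))))) := by
  obtain ⟨Y, _, _, γ, c, φ, hγ, hY, hdel, hdvd⟩ := H2
  obtain ⟨hdom, hic⟩ := H3
  let ρ : MvPolynomial (FI n d) k →+* Y := (MvPolynomial.aeval γ : MvPolynomial (FI n d) k →ₐ[k] Y).toRingHom
  have hρ : ∀ α, ρ (MvPolynomial.X α) = γ α := fun α => MvPolynomial.aeval_X γ α
  obtain ⟨α, ⟨hα, -, hαφ⟩, -⟩ := H16 ρ (FU n d k) c φ (by rw [subF_FU ρ γ hρ]; exact hdvd)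
  have hunit : IsUnit (α (mkR (FU n d k) (del hn (φU n (MvPolynomial (FI n d) k))))) := by
    have h1 := map_del hn (α.comp (mkR (FU n d k))) (φU n (MvPolynomial (FI n d) k))
    rw [RingHom.comp_apply] at h1
    rw [h1]
    have h2 : (fun l i => (α.comp (mkR (FU n d k))) (φU n (MvPolynomial (FI n d) k) l i)) = φ := by
      funext l i
      exact hαφ l i
    rw [h2]
    exact hdel.isUnit
  let σ : RD hn (FU n d k) →+* Y := IsLocalization.Away.lift _ hunit
  have hσ : σ.comp (algebraMap (MvPolynomial (FI n d) k) (RD hn (FU n d k))) = ρ := by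
    rw [IsScalarTower.algebraMap_eq (MvPolynomial (FI n d) k) (RC (FU n d k)) (RD hn (FU n d k)), ← RingHom.comp_assoc,
      IsLocalization.Away.lift_comp, hα]
  refine geometricallyIrreducible_generic_of σ ?_ ?_
  · rw [hσ]
    exact hγ
  · intro z hz
    rw [hσ] at hz
    have hσ' : ∀ a, σ (algebraMap (MvPolynomial (FI n d) k) (RD hn (FU n d k)) a) = ρ a := fun a => congr($hσ a)
    obtain ⟨P, hP, hP0⟩ := hz
    let K' := IntermediateField.adjoin k (Set.range γ)
    have hmem : ∀ a, ρ a ∈ K' := by
      intro a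
      have h1 : ρ a ∈ Algebra.adjoin k (Set.range γ) := by
        rw [Algebra.adjoin_range_eq_range_aeval]
        exact ⟨a, rfl⟩
      exact IntermediateField.algebra_adjoin_le_adjoin k _ h1
    let ρ' : MvPolynomial (FI n d) k →+* K' := ρ.codRestrict K' hmem
    have hρ' : (algebraMap K' Y).comp ρ' = ρ := rfl
    have hinj' : Function.Injective ρ' := by
      have : Function.Injective ((algebraMap K' Y).comp ρ') := by rw [hρ']; exact hγ
      exact Function.Injective.of_comp (f := algebraMap K' Y) this
    have halg : IsAlgebraic K' z := by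
      refine ⟨P.map ρ', (Polynomial.map_ne_zero_iff hinj').2 hP, ?_⟩
      rw [Polynomial.aeval_def, Polynomial.eval₂_map, hρ']
      exact hP0
    obtain ⟨r, s, hrs⟩ := (IntermediateField.mem_adjoin_range_iff k γ z).1 (hY z halg)
    by_cases hs : MvPolynomial.aeval γ s = 0
    · refine ⟨0, 1, one_ne_zero, ?_⟩
      rw [hrs, hs, div_zero, zero_mul, map_zero, map_zero]
    · refine ⟨r, s, fun h => hs (by rw [h, map_zero]), ?_⟩
      rw [hσ', hσ', hrs]
      exact div_mul_cancel₀ _ hs

/-- The statement of node H3b. -/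
def H3bStmt : Prop :=
  ∀ {n : ℕ} {R R' : Type u} [CommRing R] [CommRing R'] [Algebra R R'] (G : MvPolynomial (Fin (n + 1)) R),
    ∃ e : TensorProduct R R' (RC G) ≃ₐ[R'] RC (G.map (algebraMap R R')),
      ∀ a : AC n R, e (1 ⊗ₜ mkR G a) = mkR (G.map (algebraMap R R')) (MvPolynomial.map (algebraMap R R') a)

/-- The formation of `RD hn G` commutes with base change. -/
theorem exists_ringEquiv_RD (H3b : H3bStmt.{u}) (hn : 2 ≤ n) {R R' : Type u} [CommRing R] [CommRing R'] [Algebra R R']
    (G : MvPolynomial (Fin (n + 1)) R) :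
    Nonempty (TensorProduct R R' (RD hn G) ≃+* RD hn (G.map (algebraMap R R'))) := by
  obtain ⟨e, he⟩ := H3b (R' := R') G
  have h1 : e (1 ⊗ₜ mkR G (del hn (φU n R))) = mkR (G.map (algebraMap R R')) (del hn (φU n R')) := by
    rw [he, map_del]
    congr 2
    funext l i
    exact MvPolynomial.map_X _ _
  have h2 : (Submonoid.powers ((1 : R') ⊗ₜ[R] mkR G (del hn (φU n R)))).map (e.toRingEquiv.toMonoidHom :
      TensorProduct R R' (RC G) →* RC (G.map (algebraMap R R'))) =
      Submonoid.powers (mkR (G.map (algebraMap R R')) (del hn (φU n R'))) := by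
    rw [Submonoid.map_powers]
    congr 1
  exact ⟨(IsLocalization.Away.tensorProductEquivTMulRight R R' (mkR G (del hn (φU n R))) (RD hn G)).toRingEquiv.trans
    (IsLocalization.ringEquivOfRingEquiv (M := Submonoid.powers ((1 : R') ⊗ₜ[R] mkR G (del hn (φU n R))))
      (T := Submonoid.powers (mkR (G.map (algebraMap R R')) (del hn (φU n R'))))
      (Localization.Away ((1 : R') ⊗ₜ[R] mkR G (del hn (φU n R)))) (RD hn (G.map (algebraMap R R')))
      e.toRingEquiv h2)⟩

/-- Specialization of the universal form. -/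
theorem map_FU {k : Type u} [Field k] (G : LefPen.Form n k d) (ρ : MvPolynomial (FI n d) k →+* k)
    (hρ : ∀ α, ρ (MvPolynomial.X α) = MvPolynomial.coeff α.1 G.1) : (FU n d k).map ρ = G.1 := by
  classical
  rw [FU, formOf, map_sum]
  simp only [MvPolynomial.map_monomial, hρ]
  ext e
  rw [MvPolynomial.coeff_sum]
  by_cases he : e.degree = d
  · rw [Finset.sum_eq_single (⟨e, he⟩ : FI n d)]
    · simp
    · intro b _ hb
      rw [MvPolynomial.coeff_monomial, if_neg]
      exact fun h => hb (Subtype.ext h)
    · simp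
  · have h1 : (G.1).IsHomogeneous d := (MvPolynomial.mem_homogeneousSubmodule d G.1).1 G.2
    rw [h1.coeff_eq_zero he, Finset.sum_eq_zero]
    intro b _
    rw [MvPolynomial.coeff_monomial, if_neg]
    rintro rfl
    exact he b.2

/-- Irreducibility of the base change of the total space to a geometric generic point. -/
theorem irreducibleSpace_tensor {R S Ω : Type u} [CommRing R] [IsDomain R] [CommRing S] [Algebra R S] [Field Ω]
    [Algebra R Ω] (hinj : Function.Injective (algebraMap R Ω))
    (h : GeometricallyIrreducible ((Spec.map (CommRingCat.ofHom (algebraMap R S))).fiberToSpecResidueField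
      (genericPoint (Spec (CommRingCat.of R))))) : IrreducibleSpace (PrimeSpectrum (TensorProduct R Ω S)) := by
  have h1 := isPullback_SpecMap_of_isPushout _ _ _ _ (CommRingCat.isPushout_tensorProduct R Ω S)
  exact Groth.Agent.FlatB.GenFibRedSch.prop_of_geometrically_fiber (P := fun X => IrreducibleSpace X) _ _
    ((geometricallyIrreducible_iff _).mp h) (Spec.map (CommRingCat.ofHom (algebraMap R Ω)))
    (Groth.Agent.FlatB.GenFibRedSch.map_closedPoint_eq_genericPoint hinj) _ _ h1.flip

instance finiteType_RD {R : Type u} [CommRing R] (hn : 2 ≤ n) (G : MvPolynomial (Fin (n + 1)) R) :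
    Algebra.FiniteType R (RD hn G) := by
  have h1 : Algebra.FiniteType (RC G) (RD hn G) :=
    IsLocalization.finiteType_of_monoid_fg (Submonoid.powers (mkR G (del hn (φU n R)))) _
  exact Algebra.FiniteType.trans (S := RC G) inferInstance h1

/-- **Node H4b** (from H4a and H3b). -/
theorem isGeneric_irreducibleSpace_RD (H3b : H3bStmt.{u}) {k : Type u} [Field k] [Infinite k] (hn : 2 ≤ n)
    (H4a : GeometricallyIrreducible ((Spec.map (CommRingCat.ofHom
      (algebraMap (MvPolynomial (FI n d) k) (RD hn (FU n d k))))).fiberToSpecResidueField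
        (genericPoint (Spec (CommRingCat.of (MvPolynomial (FI n d) k)))))) :
    LefPen.IsGeneric k {G : LefPen.Form n k d | IrreducibleSpace (PrimeSpectrum (RD hn G.1))} := by
  let R₀ := MvPolynomial (FI n d) k
  let Ω := AlgebraicClosure (FractionRing R₀)
  have hinj : Function.Injective (algebraMap R₀ Ω) := by
    rw [IsScalarTower.algebraMap_eq R₀ (FractionRing R₀) (AlgebraicClosure (FractionRing R₀))]
    exact (algebraMap (FractionRing R₀) _).injective.comp (IsFractionRing.injective R₀ _)
  have hΩ := irreducibleSpace_tensor (S := RD hn (FU n d k)) hinj H4a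
  obtain ⟨a, ha, H⟩ := Groth.Agent.FlatB.GenFibIrr.exists_irreducible (A := R₀) (RD hn (FU n d k)) Ω hinj
  refine Groth.Agent.Lefpen.H702.PolyFun.isGeneric_of_mvPolynomial
    (Groth.Agent.Lefpen.H702.PolyFun.formCoords n k d) ha fun G hG => ?_
  let ρ : R₀ →+* k := (MvPolynomial.aeval (Groth.Agent.Lefpen.H702.PolyFun.formCoords n k d G) : R₀ →ₐ[k] k).toRingHom
  have hρ : ∀ α, ρ (MvPolynomial.X α) = MvPolynomial.coeff α.1 G.1 := fun α =>
    MvPolynomial.aeval_X _ α
  let _ : Algebra R₀ k := ρ.toAlgebra
  have h1 := H k hG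
  obtain ⟨e⟩ := exists_ringEquiv_RD H3b hn (R' := k) (FU n d k)
  rw [show algebraMap R₀ k = ρ from rfl, map_FU G ρ hρ] at e
  exact (PrimeSpectrum.homeomorphOfRingEquiv e).surjective.irreducibleSpace
    (PrimeSpectrum.homeomorphOfRingEquiv e).continuous

end Con

end K34.HIrr
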